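import Cfsg.Agent.H386.PslPts
import Cfsg.Agent.H353.TwoLong_m3
import Mathlib
import Cfsg.Agent.Prune
set_option linter.all false
prune_inst 0x7f00000000000000000000000000000000000000000000000000000000000000000000000000000000000000000000000000000000000000000000000000000000000000000000000000000000000000003fffffffffffffffffffffffffffbeffbdffffffff
open scoped Cfsg.Agent.FastGrp

-- part: H391/PslIdent
section
/-!
# Transitive actions of `PSL_d(q)` of degree `(q^d - 1)/(q - 1)` (helper391)

The set is, compatibly with an epimorphism from `SL_d(q)`, the set of points of the projective space.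
-/

set_option autoImplicit false

namespace Cfsg.Agent.H391.PslIdent

open Matrix MulAction Cfsg.Agent.H118.SLTrans Cfsg.Agent.H386.PslPts
open scoped LinearAlgebra.Projectivization

/-- Transitive actions with the same point stabiliser. -/
theorem exists_equiv_of_stab {S X Ω P : Type*} [Group S] [Group X] [MulAction X Ω] [MulAction S P]
    [IsPretransitive X Ω] [IsPretransitive S P] (φ : S →* X) (hφ : Function.Surjective φ) (a : Ω) (D : P)
    (h : ∀ s, φ s • a = a ↔ s • D = D) :
    ∃ f : Ω ≃ P, f a = D ∧ ∀ (s : S) (x : Ω), f (φ s • x) = s • f x := by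
  classical
  have h1 : ∀ x : Ω, ∃ s : S, φ s • a = x := fun x => by
    obtain ⟨y, hy⟩ := exists_smul_eq X a x
    obtain ⟨s, rfl⟩ := hφ y
    exact ⟨s, hy⟩
  choose c hc using h1
  have key : ∀ s t : S, φ s • a = φ t • a ↔ s • D = t • D := by
    intro s t
    have := h (t⁻¹ * s)
    rw [map_mul, map_inv, mul_smul, mul_smul, inv_smul_eq_iff, inv_smul_eq_iff] at this
    exact this
  have hcD : ∀ s : S, c (φ s • a) • D = s • D := fun s => (key _ _).1 (hc _)
  let f : Ω → P := fun x => c x • D
  have hf1 : ∀ (s : S) (x : Ω), f (φ s • x) = s • f x := by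
    intro s x
    change c (φ s • x) • D = s • c x • D
    rw [← mul_smul, ← hcD (s * c x), map_mul, mul_smul, hc]
  have hfa : f a = D := by
    change c a • D = D
    have := hcD 1
    rwa [map_one, one_smul, one_smul] at this
  have hinj : Function.Injective f := by
    intro x y hxy
    have := (key (c x) (c y)).2 hxy
    rwa [hc, hc] at this
  have hsurj : Function.Surjective f := by
    intro p
    obtain ⟨s, rfl⟩ := exists_smul_eq S D p
    refine ⟨φ s • a, ?_⟩
    rw [hf1, hfa]
  exact ⟨Equiv.ofBijective f ⟨hinj, hsurj⟩, hfa, hf1⟩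

variable {ι F : Type*} [Field F] [DecidableEq ι] [Fintype ι]

local notation "SL" => SpecialLinearGroup ι F

theorem eq_stab [Finite F] [Nonempty ι] (H : Subgroup SL) {w : ι → F} (hw : w ≠ 0)
    (hH : ∀ h ∈ H, ∃ c : F, h.1 *ᵥ w = c • w)
    (hidx : H.index * (Nat.card F - 1) = Nat.card F ^ Fintype.card ι - 1) :
    H = stabilizer SL (Projectivization.mk F w hw) := by
  let D : ℙ F (ι → F) := Projectivization.mk F w hw
  have hsm : ∀ g : SL, g • w = g.1 *ᵥ w := fun g => rfl
  have h1 : H ≤ stabilizer SL D := by
    intro h hh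
    obtain ⟨c, hc⟩ := hH h hh
    rw [mem_stabilizer_iff, Projectivization.smul_mk, Projectivization.mk_eq_mk_iff']
    exact ⟨c, by rw [hsm, hc]⟩
  have hq : 1 < Nat.card F := Finite.one_lt_card
  have h2 : (stabilizer SL D).index = H.index := by
    rw [index_stabilizer_of_transitive]
    have h3 := Projectivization.card F (ι → F)
    rw [Nat.card_fun, Nat.card_eq_fintype_card (α := ι), ← hidx] at h3
    exact (Nat.eq_of_mul_eq_mul_right (by omega) h3).symm
  have hfin : Finite SL := inferInstance
  refine le_antisymm h1 ?_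
  have h4 := Subgroup.relIndex_mul_index h1
  rw [h2] at h4
  have h5 : 0 < H.index := Nat.pos_of_ne_zero Subgroup.index_ne_zero_of_finite
  have h6 : H.relIndex (stabilizer SL D) = 1 := Nat.eq_of_mul_eq_mul_right h5 (by rw [h4, one_mul])
  exact Subgroup.relIndex_eq_one.1 h6

open Module in
/-- A subgroup of `SL_n(q)` of index `(q^n - 1)/(q - 1)` is the stabiliser of a point or (after inverse transposition)
of a hyperplane. -/
theorem point_or_hyp [Fintype F] (hn : 2 ≤ Fintype.card ι) (H : Subgroup SL)
    (hidx : H.index * (Fintype.card F - 1) = Fintype.card F ^ Fintype.card ι - 1) :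
    (∃ D : ℙ F (ι → F), H = stabilizer SL D) ∨
      ∃ D : ℙ F (ι → F), H.map (invT (ι := ι) (F := F)).toMonoidHom = stabilizer SL D := by
  have : Nontrivial ι := Fintype.one_lt_card_iff_nontrivial.1 (by omega)
  have hq : 1 < Fintype.card F := Fintype.one_lt_card
  have hfin : Finite SL := inferInstance
  obtain ⟨r, hchar⟩ := CharP.exists F
  obtain ⟨a, hr, ha⟩ := FiniteField.card F r
  have hfr : Fact r.Prime := ⟨hr⟩
  have hpow : 0 < Fintype.card F ^ Fintype.card ι := pow_pos (by omega) _
  have hri : ¬ r ∣ H.index := by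
    intro h
    have h1 : r ∣ Fintype.card F ^ Fintype.card ι - 1 := by
      rw [← hidx]; exact h.mul_right _
    have h2 : r ∣ Fintype.card F ^ Fintype.card ι := by
      rw [ha]
      exact dvd_pow (dvd_pow_self r a.pos.ne') (by omega)
    have h3 := (Nat.dvd_sub h2 h1)
    have h4 : Fintype.card F ^ Fintype.card ι - (Fintype.card F ^ Fintype.card ι - 1) = 1 := by omega
    rw [h4] at h3
    exact hr.one_lt.ne' (Nat.dvd_one.1 h3)
  have hbot := Cen_ne_bot hr H hri
  have htop : Cen H ≠ ⊤ := by
    intro h
    have h1 := eq_top_of_Cen H h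
    rw [h1, Subgroup.index_top, one_mul] at hidx
    have h2 : Fintype.card F ^ 2 ≤ Fintype.card F ^ Fintype.card ι := Nat.pow_le_pow_right (by omega) hn
    have h3 : Fintype.card F < Fintype.card F ^ 2 := by nlinarith only [hq]
    omega
  have hst : ∀ h ∈ H, ∀ c ∈ Cen H, h.1 *ᵥ c ∈ Cen H := fun h hh c hc => smul_mem_Cen hh hc
  have h1 := pow_le_index (r := r) (Cen H) H hst
  have hm1 : 1 ≤ finrank F (Cen H) := by
    rw [Nat.one_le_iff_ne_zero]
    intro h
    exact hbot (Submodule.finrank_eq_zero.1 h)
  have hmn : finrank F (Cen H) < Fintype.card ι := by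
    have := Submodule.finrank_lt htop
    rwa [finrank_fintype_fun_eq_card] at this
  rw [Nat.card_eq_fintype_card] at h1
  have hidx' : H.index * (Nat.card F - 1) = Nat.card F ^ Fintype.card ι - 1 := by
    rw [Nat.card_eq_fintype_card]; exact hidx
  rcases arith hq hm1 hmn h1 hidx with h | h
  · -- a point
    left
    obtain ⟨w, hw0, hw⟩ := finrank_eq_one_iff'.1 h
    have hw0' : (w : ι → F) ≠ 0 := fun h0 => hw0 (Subtype.ext h0)
    refine ⟨_, eq_stab H (w := w) hw0' (fun g hg => ?_) hidx'⟩
    obtain ⟨c, hc⟩ := hw ⟨_, hst g hg w w.2⟩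
    exact ⟨c, (congrArg Subtype.val hc).symm⟩
  · -- a hyperplane
    right
    obtain ⟨f, hf0, hf⟩ := Submodule.exists_le_ker_of_lt_top (Cen H) (lt_top_iff_ne_top.2 htop)
    obtain ⟨v₀, hv₀⟩ : ∃ v, f v ≠ 0 := by
      by_contra hcon
      push Not at hcon
      exact hf0 (LinearMap.ext hcon)
    have hker : LinearMap.ker f = Cen H := by
      refine (Submodule.eq_of_le_of_finrank_le hf ?_).symm
      have h2 : LinearMap.ker f < ⊤ := by
        rw [lt_top_iff_ne_top]
        intro h3
        exact hf0 (LinearMap.ker_eq_top.1 h3)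
      have h3 := Submodule.finrank_lt h2.ne
      rw [finrank_fintype_fun_eq_card] at h3
      omega
    let ψ : ι → F := fun i => f (Pi.single i 1)
    have hψ : ∀ v, ψ ⬝ᵥ v = f v := by
      intro v
      conv_rhs => rw [← Finset.univ_sum_single v, map_sum]
      refine Finset.sum_congr rfl fun i _ => ?_
      have : (Pi.single i (v i) : ι → F) = v i • (Pi.single i 1 : ι → F) := by
        rw [← Pi.single_smul, smul_eq_mul, mul_one]
      rw [this, map_smul, smul_eq_mul, mul_comm]
    have hψ0 : ψ ≠ 0 := by
      intro h2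
      apply hv₀
      rw [← hψ, h2, zero_dotProduct]
    refine ⟨_, eq_stab _ hψ0 ?_ ?_⟩
    · rintro _ ⟨g, hg, rfl⟩
      change ∃ c : F, (g⁻¹).1.transpose *ᵥ ψ = c • ψ
      refine ⟨(((g⁻¹).1.transpose *ᵥ ψ) ⬝ᵥ v₀) / f v₀, ?_⟩
      have key : ∀ c ∈ Cen H, ((g⁻¹).1.transpose *ᵥ ψ) ⬝ᵥ c = 0 := by
        intro c hc
        rw [mulVec_transpose, ← dotProduct_mulVec, hψ]
        exact hf (hst _ (inv_mem hg) c hc)
      ext i
      have h2 : (Pi.single i 1 : ι → F) - (f (Pi.single i 1) / f v₀) • v₀ ∈ Cen H := by
        rw [← hker, LinearMap.mem_ker, map_sub, map_smul, smul_eq_mul, div_mul_cancel₀ _ hv₀, sub_self]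
      have h3 := key _ h2
      rw [dotProduct_sub, dotProduct_smul, dotProduct_single, mul_one, sub_eq_zero] at h3
      rw [h3, Pi.smul_apply, smul_eq_mul, smul_eq_mul]
      change _ = _ * f (Pi.single i 1)
      ring
    · rw [← hidx', MulEquiv.toMonoidHom_eq_coe]
      congr 1
      exact Subgroup.index_map_equiv H invT

/-- **Identification.** A transitive action of a quotient `X` of `SL_n(q)` of degree `(q^n - 1)/(q - 1)` is the action
on the points of the projective space, up to composing with an automorphism of `SL_n(q)`. -/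
theorem exists_equiv_proj [Fintype F] (hn : 2 ≤ Fintype.card ι) {X Ω : Type*} [Group X] [MulAction X Ω]
    [Finite Ω] [IsPretransitive X Ω] (π : SL →* X) (hπ : Function.Surjective π)
    (hΩ : Nat.card Ω * (Fintype.card F - 1) = Fintype.card F ^ Fintype.card ι - 1) :
    ∃ (φ : SL →* X) (f : Ω ≃ ℙ F (ι → F)), Function.Surjective φ ∧
      ∀ (s : SL) (x : Ω), f (φ s • x) = s • f x := by
  have : Nonempty ι := Fintype.card_pos_iff.1 (by omega)
  have hq : 1 < Fintype.card F := Fintype.one_lt_card
  have hne : Nonempty Ω := by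
    by_contra h
    rw [not_nonempty_iff] at h
    rw [Nat.card_of_isEmpty, zero_mul] at hΩ
    have h1 := Nat.pow_le_pow_right (show 0 < Fintype.card F by omega) hn
    have h2 : 4 ≤ Fintype.card F ^ 2 := by nlinarith only [hq]
    omega
  obtain ⟨a⟩ := hne
  have hpr : IsPreprimitive SL (ℙ F (ι → F)) := inferInstance
  have htr : IsPretransitive SL (ℙ F (ι → F)) := inferInstance
  have hidx : ((stabilizer X a).comap π).index = Nat.card Ω := by
    rw [Subgroup.index_comap_of_surjective _ hπ, index_stabilizer_of_transitive]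
  rcases point_or_hyp hn ((stabilizer X a).comap π) (by rw [hidx]; exact hΩ) with ⟨D, hD⟩ | ⟨D, hD⟩
  · obtain ⟨f, -, hf⟩ := exists_equiv_of_stab π hπ a D (fun s => by
      rw [← mem_stabilizer_iff, ← mem_stabilizer_iff, ← hD, Subgroup.mem_comap])
    exact ⟨π, f, hπ, hf⟩
  · let i : SL ≃* SL := invT
    have hπ' : Function.Surjective (π.comp i.symm.toMonoidHom) := hπ.comp i.symm.surjective
    obtain ⟨f, -, hf⟩ := exists_equiv_of_stab (π.comp i.symm.toMonoidHom) hπ' a D (fun s => by
      rw [← mem_stabilizer_iff, ← mem_stabilizer_iff, ← hD]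
      constructor
      · intro h
        exact ⟨i.symm s, h, i.apply_symm_apply s⟩
      · rintro ⟨t, ht, rfl⟩
        change π (i.symm (i t)) ∈ stabilizer X a
        rw [i.symm_apply_apply]
        exact ht)
    exact ⟨_, f, hπ', hf⟩

end Cfsg.Agent.H391.PslIdent
end

-- part: H391/ProjFlat
section
/-!
# Flats of a finite projective space and permutations normalising `SL` (helper391)

* `exists_submodule` : a set of points closed under joining lines is the set of points of a subspace;
* `card_on` : number of points of a subspace;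
* `exists_sl` : `SL` is transitive on independent tuples of points;
* `Nrm` : permutations of the points normalising the action of `SL`; for dimension at least 3 they map the points of
  a subspace to the points of a subspace of the same dimension (`Nrm.exists_map`).
-/

set_option autoImplicit false

namespace Cfsg.Agent.H391.ProjFlat

open scoped LinearAlgebra.Projectivization
open Module

variable {F V : Type*} [Field F] [AddCommGroup V] [Module F V]

theorem mk_le_iff {v : V} (hv : v ≠ 0) (W : Submodule F V) : (Projectivization.mk F v hv).submodule ≤ W ↔ v ∈ W := by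
  rw [Projectivization.submodule_mk, Submodule.span_singleton_le_iff_mem]

theorem rep_mem_iff (p : ℙ F V) (W : Submodule F V) : p.rep ∈ W ↔ p.submodule ≤ W := by
  rw [Projectivization.submodule_eq, Submodule.span_singleton_le_iff_mem]

/-- A set of points closed under lines is the set of points of a subspace. -/
theorem exists_submodule (S : Set (ℙ F V))
    (hS : ∀ p ∈ S, ∀ q ∈ S, p ≠ q → ∀ r : ℙ F V, r.submodule ≤ p.submodule ⊔ q.submodule → r ∈ S) :
    ∃ W : Submodule F V, ∀ p : ℙ F V, p.submodule ≤ W ↔ p ∈ S := by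
  classical
  let W : Submodule F V :=
    { carrier := {v | ∀ h : v ≠ 0, Projectivization.mk F v h ∈ S}
      zero_mem' := fun h => absurd rfl h
      add_mem' := by
        intro v w hv hw h
        by_cases hv0 : v = 0
        · subst hv0
          have h' : w ≠ 0 := by rwa [zero_add] at h
          have := hw h'
          simpa only [zero_add] using this
        by_cases hw0 : w = 0
        · subst hw0
          have := hv hv0
          simpa only [add_zero] using this
        have h1 := hv hv0
        have h2 := hw hw0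
        by_cases hne : Projectivization.mk F v hv0 = Projectivization.mk F w hw0
        · rw [Projectivization.mk_eq_mk_iff'] at hne
          obtain ⟨a, ha⟩ := hne
          have h3 : Projectivization.mk F (v + w) h = Projectivization.mk F w hw0 := by
            rw [Projectivization.mk_eq_mk_iff']
            exact ⟨a + 1, by rw [add_smul, ha, one_smul]⟩
          rw [h3]; exact h2
        · refine hS _ h1 _ h2 hne _ ?_
          rw [mk_le_iff, Projectivization.submodule_mk, Projectivization.submodule_mk]
          exact Submodule.add_mem_sup (Submodule.mem_span_singleton_self v) (Submodule.mem_span_singleton_self w)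
      smul_mem' := by
        intro c v hv h
        have hv0 : v ≠ 0 := fun h0 => h (by rw [h0, smul_zero])
        have h3 : Projectivization.mk F (c • v) h = Projectivization.mk F v hv0 := by
          rw [Projectivization.mk_eq_mk_iff']
          exact ⟨c, rfl⟩
        rw [h3]; exact hv hv0 }
  refine ⟨W, fun p => ?_⟩
  induction p using Projectivization.ind with | _ v hv =>
  rw [mk_le_iff]
  exact ⟨fun h => h hv, fun h _ => h⟩

/-- the points of a subspace -/
def pts (W : Submodule F V) : Set (ℙ F V) := {p | p.submodule ≤ W}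

theorem mem_pts {W : Submodule F V} {p : ℙ F V} : p ∈ pts W ↔ p.submodule ≤ W := Iff.rfl

/-- points of the subspace = projectivization of the subspace -/
noncomputable def ptsEquiv (W : Submodule F V) : ℙ F W ≃ pts W := by
  refine Equiv.ofBijective (fun p => ⟨p.map W.subtype W.injective_subtype, ?_⟩) ⟨?_, ?_⟩
  · induction p using Projectivization.ind with | _ v hv =>
    rw [mem_pts, Projectivization.map_mk, mk_le_iff]
    exact v.2
  · intro p q h
    exact Projectivization.map_injective W.subtype W.injective_subtype (congrArg Subtype.val h)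
  · rintro ⟨p, hp⟩
    induction p using Projectivization.ind with | _ v hv =>
    rw [mem_pts, mk_le_iff] at hp
    refine ⟨Projectivization.mk F ⟨v, hp⟩ (fun h => hv (congrArg Subtype.val h)), ?_⟩
    exact Subtype.ext rfl

theorem card_pts [Finite F] [Module.Finite F V] (W : Submodule F V) :
    Nat.card (pts W) * (Nat.card F - 1) = Nat.card F ^ finrank F W - 1 := by
  have h1 := Projectivization.card F W
  rw [← Nat.card_congr (ptsEquiv W), ← h1]
  congr 1
  exact Module.natCard_eq_pow_finrank

theorem finrank_eq_of_card [Finite F] [Module.Finite F V] {W W' : Submodule F V}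
    (h : Nat.card (pts W) = Nat.card (pts W')) : finrank F W = finrank F W' := by
  have h1 := card_pts W
  have h2 := card_pts W'
  have hq : 1 < Nat.card F := Finite.one_lt_card
  rw [h, h2] at h1
  have h3 : 0 < Nat.card F ^ finrank F W := pow_pos (by omega) _
  have h4 : 0 < Nat.card F ^ finrank F W' := pow_pos (by omega) _
  exact Nat.pow_right_injective hq (show Nat.card F ^ finrank F W = Nat.card F ^ finrank F W' by omega)

/-- `SL` is transitive on independent tuples (projectively). -/
theorem exists_sl [Module.Finite F V] {κ : Type*} [Finite κ] {v w : κ → V} (hv : LinearIndependent F v)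
    (hw : LinearIndependent F w) (i₀ : κ) :
    ∃ g : V ≃ₗ[F] V, LinearEquiv.det g = 1 ∧ ∀ i, ∃ c : F, c ≠ 0 ∧ g (v i) = c • w i := by
  classical
  have hfin : FiniteDimensional F (Submodule.span F (Set.range v)) :=
    FiniteDimensional.span_of_finite F (Set.finite_range _)
  let f : Submodule.span F (Set.range v) ≃ₗ[F] Submodule.span F (Set.range w) :=
    hv.linearCombinationEquiv.symm ≪≫ₗ hw.linearCombinationEquiv
  obtain ⟨g, hg⟩ := Submodule.exists_linearEquiv_restrict_eq f
  have hgv : ∀ i, g (v i) = w i := by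
    intro i
    have h1 : v i = ((hv.linearCombinationEquiv (Finsupp.single i 1) :
        Submodule.span F (Set.range v)) : V) := by simp
    have h2 : w i = ((hw.linearCombinationEquiv (Finsupp.single i 1) :
        Submodule.span F (Set.range w)) : V) := by simp
    rw [h1, ← hg, h2]
    simp [f]
  -- a functional with φ (w i₀) = 1 and φ (w i) = 0 for i ≠ i₀
  have hnot : w i₀ ∉ Submodule.span F (w '' (Set.univ \ {i₀})) := by
    have := hw.notMem_span_image (s := Set.univ \ {i₀}) (x := i₀) (by simp)
    exact this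
  obtain ⟨φ, hφ1, hφ2⟩ := Submodule.exists_le_ker_of_notMem hnot
  let a : F := ((LinearEquiv.det g)⁻¹ : Fˣ)
  let ψ : Dual F V := (a - 1) • (φ (w i₀))⁻¹ • φ
  have hψ0 : ψ (w i₀) = a - 1 := by
    simp only [ψ, LinearMap.smul_apply, smul_eq_mul]
    rw [inv_mul_cancel₀ hφ1, mul_one]
  have hψ : ∀ i, i ≠ i₀ → ψ (w i) = 0 := by
    intro i hi
    have : w i ∈ LinearMap.ker φ := hφ2 (Submodule.subset_span ⟨i, ⟨trivial, hi⟩, rfl⟩)
    rw [LinearMap.mem_ker] at this
    simp only [ψ, LinearMap.smul_apply, this, smul_zero]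
  have ha : a ≠ 0 := Units.ne_zero _
  have hunit : IsUnit (1 + ψ (w i₀)) := by
    rw [hψ0]
    exact isUnit_iff_ne_zero.2 (by rwa [add_sub_cancel])
  let h : V ≃ₗ[F] V := LinearEquiv.dilatransvection hunit
  have hdet : LinearEquiv.det h = (LinearEquiv.det g)⁻¹ := by
    rw [← Units.val_inj, LinearEquiv.coe_det]
    have : (h : V →ₗ[F] V) = LinearMap.transvection ψ (w i₀) := LinearEquiv.dilatransvection.coe_toLinearMap
    rw [this, LinearMap.transvection.det, hψ0, add_sub_cancel]
  have happ : ∀ x, h x = x + ψ x • w i₀ := fun x => LinearEquiv.dilatransvection.apply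
  refine ⟨g.trans h, ?_, fun i => ?_⟩
  · rw [show g.trans h = h * g from rfl, map_mul, hdet, inv_mul_cancel]
  · by_cases hi : i = i₀
    · subst hi
      refine ⟨a, ha, ?_⟩
      rw [LinearEquiv.trans_apply, hgv, happ, hψ0, sub_smul, one_smul]
      abel
    · refine ⟨1, one_ne_zero, ?_⟩
      rw [LinearEquiv.trans_apply, hgv, happ, hψ i hi, zero_smul, add_zero, one_smul]

theorem smul_mem_pts {g : V ≃ₗ[F] V} {p q r : ℙ F V} (hp : g • p = p) (hq : g • q = q)
    (hr : r ∈ pts (p.submodule ⊔ q.submodule)) : g • r ∈ pts (p.submodule ⊔ q.submodule) := by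
  have key : ∀ s : ℙ F V, (g • s).submodule = s.submodule.map (g : V →ₗ[F] V) := by
    intro s
    induction s using Projectivization.ind with | _ v hv =>
    rw [Projectivization.smul_mk, Projectivization.submodule_mk, Projectivization.submodule_mk,
      Submodule.map_span, Set.image_singleton]
    rfl
  rw [mem_pts] at hr ⊢
  rw [key]
  refine (Submodule.map_mono hr).trans ?_
  rw [Submodule.map_sup, ← key p, ← key q, hp, hq]

theorem finrank_line [Module.Finite F V] {p q : ℙ F V} (h : p ≠ q) :
    finrank F ↥(p.submodule ⊔ q.submodule) = 2 := by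
  have h1 := Submodule.finrank_sup_add_finrank_inf_eq p.submodule q.submodule
  rw [Projectivization.finrank_submodule, Projectivization.finrank_submodule] at h1
  have h2 : finrank F ↥(p.submodule ⊓ q.submodule) = 0 := by
    by_contra h0
    have h6 : finrank F ↥(p.submodule ⊓ q.submodule) ≤ finrank F p.submodule :=
      Submodule.finrank_mono inf_le_left
    rw [Projectivization.finrank_submodule] at h6
    have h3 : finrank F ↥(p.submodule ⊓ q.submodule) = 1 := by omega
    have h4 : p.submodule ⊓ q.submodule = p.submodule :=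
      Submodule.eq_of_le_of_finrank_le inf_le_left (by rw [h3, Projectivization.finrank_submodule])
    have h5 : p.submodule ⊓ q.submodule = q.submodule :=
      Submodule.eq_of_le_of_finrank_le inf_le_right (by rw [h3, Projectivization.finrank_submodule])
    exact h (Projectivization.submodule_injective (h4.symm.trans h5))
  omega

/-- there are more points off a line than on it -/
theorem card_line_lt [Finite F] [Module.Finite F V] (h3 : 3 ≤ finrank F V) {L : Submodule F V}
    (hL : finrank F L = 2) : Nat.card (pts L) < Nat.card ↥(pts L)ᶜ := by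
  have hfV : Finite V := Module.finite_of_finite F
  have hq : 1 < Nat.card F := Finite.one_lt_card
  obtain ⟨w, hw⟩ : ∃ w, w ∉ L := by
    by_contra hcon
    push Not at hcon
    have : L = ⊤ := eq_top_iff.2 fun x _ => hcon x
    rw [this, finrank_top] at hL
    omega
  have hne : ∀ v : L, (v : V) + w ≠ 0 := by
    intro v h0
    apply hw
    rw [show w = ((v : V) + w) - v by abel, h0, zero_sub]
    exact L.neg_mem v.2
  let f : L → ↥(pts L)ᶜ := fun v => ⟨Projectivization.mk F ((v : V) + w) (hne v), by
    rw [Set.mem_compl_iff, mem_pts, mk_le_iff]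
    intro h
    apply hw
    have := L.sub_mem h v.2
    rwa [add_sub_cancel_left] at this⟩
  have hf : Function.Injective f := by
    intro v v' h
    have h1 := congrArg Subtype.val h
    change Projectivization.mk F ((v : V) + w) _ = Projectivization.mk F ((v' : V) + w) _ at h1
    rw [Projectivization.mk_eq_mk_iff'] at h1
    obtain ⟨a, ha⟩ := h1
    have h2 : (a - 1) • w ∈ L := by
      have : (a - 1) • w = (v : V) - a • (v' : V) := by
        rw [smul_add] at ha
        rw [sub_smul, one_smul]
        rw [sub_eq_sub_iff_add_eq_add, ← ha]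
        abel
      rw [this]
      exact L.sub_mem v.2 (L.smul_mem _ v'.2)
    have h4 : a = 1 := by
      by_contra hne'
      exact hw ((L.smul_mem_iff (sub_ne_zero.2 hne')).1 h2)
    rw [h4, one_smul] at ha
    exact Subtype.ext (add_right_cancel ha).symm
  have h1 : Nat.card L ≤ Nat.card ↥(pts L)ᶜ := Nat.card_le_card_of_injective f hf
  have h2 := card_pts L
  have h4 : Nat.card L = Nat.card F ^ finrank F L := Module.natCard_eq_pow_finrank
  rw [← h4] at h2
  have hq1 : 0 < Nat.card F - 1 := by omega
  have h5 : Nat.card (pts L) ≤ Nat.card (pts L) * (Nat.card F - 1) := Nat.le_mul_of_pos_right _ hq1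
  have h6 : 0 < Nat.card L := Nat.card_pos
  omega

theorem exists_fix [Module.Finite F V] {p q r r' : ℙ F V} (hpq : p ≠ q)
    (hr : r ∉ pts (p.submodule ⊔ q.submodule)) (hr' : r' ∉ pts (p.submodule ⊔ q.submodule)) :
    ∃ g : V ≃ₗ[F] V, LinearEquiv.det g = 1 ∧ g • p = p ∧ g • q = q ∧ g • r = r' := by
  have hind : ∀ s : ℙ F V, s ∉ pts (p.submodule ⊔ q.submodule) →
      LinearIndependent F ![s.rep, p.rep, q.rep] := by
    intro s hs
    rw [show ![s.rep, p.rep, q.rep] = Fin.cons s.rep ![p.rep, q.rep] from rfl, linearIndependent_finCons]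
    refine ⟨Projectivization.linearIndependent_pair_iff_ne.2 hpq, ?_⟩
    intro h
    apply hs
    rw [mem_pts, ← rep_mem_iff, Projectivization.submodule_eq, Projectivization.submodule_eq]
    have : Submodule.span F (Set.range ![p.rep, q.rep]) = Submodule.span F {p.rep} ⊔ Submodule.span F {q.rep} := by
      rw [← Submodule.span_union]
      congr 1
      ext x
      simp
    rwa [this] at h
  obtain ⟨g, hg, h⟩ := exists_sl (hind r hr) (hind r' hr') 0
  have key : ∀ s t : ℙ F V, (∃ c : F, c ≠ 0 ∧ g s.rep = c • t.rep) → g • s = t := by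
    rintro s t ⟨c, hc, hst⟩
    conv_lhs => rw [← Projectivization.mk_rep s]
    conv_rhs => rw [← Projectivization.mk_rep t]
    rw [Projectivization.smul_mk, Projectivization.mk_eq_mk_iff']
    exact ⟨c, hst.symm⟩
  exact ⟨g, hg, key _ _ (h 1), key _ _ (h 2), key _ _ (h 0)⟩

/-- `γ` normalises the action of `SL`. -/
def Nrm (γ : Equiv.Perm (ℙ F V)) : Prop :=
  ∀ g : V ≃ₗ[F] V, LinearEquiv.det g = 1 → ∃ g' : V ≃ₗ[F] V, LinearEquiv.det g' = 1 ∧ ∀ x, γ (g • x) = g' • γ x

theorem Nrm.off [Finite F] [Module.Finite F V] (h3 : 3 ≤ finrank F V) {γ : Equiv.Perm (ℙ F V)} (hγ : Nrm γ)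
    {p q r : ℙ F V} (hpq : p ≠ q) (hr : r ∉ pts (p.submodule ⊔ q.submodule)) :
    γ r ∉ pts ((γ p).submodule ⊔ (γ q).submodule) := by
  intro hcon
  have hfV : Finite V := Module.finite_of_finite F
  have hfP : Finite (ℙ F V) := inferInstance
  have hpq' : γ p ≠ γ q := fun h => hpq (γ.injective h)
  have hall : ∀ r' ∉ pts (p.submodule ⊔ q.submodule), γ r' ∈ pts ((γ p).submodule ⊔ (γ q).submodule) := by
    intro r' hr'
    obtain ⟨g, hg, hgp, hgq, hgr⟩ := exists_fix hpq hr hr'
    obtain ⟨g', -, hg'⟩ := hγ g hg
    rw [← hgr, hg']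
    apply smul_mem_pts _ _ hcon
    · rw [← hg', hgp]
    · rw [← hg', hgq]
  have h1 : Nat.card ↥(pts (p.submodule ⊔ q.submodule))ᶜ ≤
      Nat.card (pts ((γ p).submodule ⊔ (γ q).submodule)) := by
    refine Nat.card_le_card_of_injective (fun r' => ⟨γ r'.1, hall r'.1 r'.2⟩) ?_
    intro x y hxy
    exact Subtype.ext (γ.injective (congrArg Subtype.val hxy))
  have h2 := card_line_lt h3 (finrank_line hpq')
  have h4 : Nat.card (pts ((γ p).submodule ⊔ (γ q).submodule)) = Nat.card (pts (p.submodule ⊔ q.submodule)) := by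
    have h5 := card_pts ((γ p).submodule ⊔ (γ q).submodule)
    have h6 := card_pts (p.submodule ⊔ q.submodule)
    rw [finrank_line hpq', ← finrank_line hpq, ← h6] at h5
    have hq : 1 < Nat.card F := Finite.one_lt_card
    exact Nat.eq_of_mul_eq_mul_right (by omega) h5
  have h5 := card_line_lt h3 (finrank_line hpq)
  omega

/-- A permutation of the points normalising `SL` maps subspaces to subspaces of the same dimension. -/
theorem Nrm.exists_map [Finite F] [Module.Finite F V] (h3 : 3 ≤ finrank F V) {γ : Equiv.Perm (ℙ F V)} (hγ : Nrm γ)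
    (W : Submodule F V) :
    ∃ W' : Submodule F V, finrank F W' = finrank F W ∧ ∀ p, p ∈ pts W ↔ γ p ∈ pts W' := by
  have hfV : Finite V := Module.finite_of_finite F
  obtain ⟨W', hW'⟩ := exists_submodule {p | γ⁻¹ p ∈ pts W} (by
    intro p hp q hq hpq r hr
    rw [Set.mem_ofPred_eq] at hp hq ⊢
    have hpq' : γ⁻¹ p ≠ γ⁻¹ q := fun h => hpq (γ⁻¹.injective h)
    by_contra hcon
    have h1 : γ⁻¹ r ∉ pts ((γ⁻¹ p).submodule ⊔ (γ⁻¹ q).submodule) := by
      intro h2
      exact hcon (le_trans (mem_pts.1 h2) (sup_le (mem_pts.1 hp) (mem_pts.1 hq)))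
    have h2 := hγ.off h3 hpq' h1
    have hself : ∀ x, γ (γ⁻¹ x) = x := fun x => γ.apply_symm_apply x
    rw [hself, hself, hself] at h2
    exact h2 hr)
  have hiff : ∀ p, p ∈ pts W ↔ γ p ∈ pts W' := by
    intro p
    have hself : γ⁻¹ (γ p) = p := γ.symm_apply_apply p
    rw [mem_pts (W := W'), hW', Set.mem_ofPred_eq, hself]
  refine ⟨W', ?_, hiff⟩
  apply finrank_eq_of_card
  refine (Nat.card_congr (Equiv.subtypeEquiv γ fun p => hiff p)).symm

end Cfsg.Agent.H391.ProjFlat
end

-- part: H391/ProjSets
section
/-!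
# Sets of points separated by their ranks (helper391)

`proj_sets` : in a projective space of dimension at least 2, for every `k ≥ 4` with `2k ≤ n + 1` there are a
`(k-1)`-set `I` and a `k`-set `J` of points such that no permutation normalising `SL` maps `I` into `J`.
-/

set_option autoImplicit false

namespace Cfsg.Agent.H391.ProjFlat

open scoped LinearAlgebra.Projectivization
open Module

variable {F V : Type*} [Field F] [AddCommGroup V] [Module F V]

/-- number of points of a subspace of dimension `j` -/
def th (q j : ℕ) : ℕ := ∑ i ∈ Finset.range j, q ^ i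

theorem th_mul {q : ℕ} (hq : 1 ≤ q) (j : ℕ) : th q j * (q - 1) = q ^ j - 1 := by
  unfold th
  exact geom_sum_mul_of_one_le hq j

theorem th_succ (q j : ℕ) : th q (j + 1) = th q j + q ^ j := by
  unfold th
  rw [Finset.sum_range_succ]

theorem th_mono {q : ℕ} {i j : ℕ} (h : i ≤ j) : th q i ≤ th q j := by
  unfold th
  exact Finset.sum_le_sum_of_subset (Finset.range_mono h)

theorem two_pow_le_th {q : ℕ} (hq : 2 ≤ q) (j : ℕ) : 2 ^ j ≤ th q j + 1 := by
  induction j with
  | zero => simp [th]
  | succ j ih =>
    rw [th_succ]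
    have : 2 ^ j ≤ q ^ j := Nat.pow_le_pow_left hq j
    rw [pow_succ]
    omega

theorem card_pts' [Finite F] [Module.Finite F V] (W : Submodule F V) :
    Nat.card (pts W) = th (Nat.card F) (finrank F W) := by
  have hq : 1 < Nat.card F := Finite.one_lt_card
  have h1 := card_pts W
  rw [← th_mul (by omega : 1 ≤ Nat.card F)] at h1
  have hq1 : 0 < Nat.card F - 1 := by omega
  exact Nat.eq_of_mul_eq_mul_right hq1 h1

theorem card_all [Finite F] [Module.Finite F V] : Nat.card (ℙ F V) = th (Nat.card F) (finrank F V) := by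
  have h := card_pts' (⊤ : Submodule F V)
  rw [finrank_top] at h
  rw [← h]
  have : (pts (⊤ : Submodule F V)) = Set.univ := by
    ext p; simp [mem_pts]
  rw [this, Nat.card_congr (Equiv.Set.univ _)]

theorem exists_finrank_eq [Module.Finite F V] {j : ℕ} (hj : j ≤ finrank F V) :
    ∃ W : Submodule F V, finrank F W = j := by
  let b := finBasis F V
  have hli : LinearIndependent F (fun i : Fin j => b (Fin.castLE hj i)) :=
    b.linearIndependent.comp _ (Fin.castLE_injective hj)
  refine ⟨Submodule.span F (Set.range fun i : Fin j => b (Fin.castLE hj i)), ?_⟩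
  rw [finrank_span_eq_card hli, Fintype.card_fin]

theorem exists_indep [Module.Finite F V] {j : ℕ} (hj : j ≤ finrank F V) :
    ∃ v : Fin j → ℙ F V, Function.Injective v ∧ ∀ W : Submodule F V, ∀ s : Finset (Fin j), (∀ i ∈ s, v i ∈ pts W) →
      s.card ≤ finrank F W := by
  let b := finBasis F V
  have hli : LinearIndependent F (fun i : Fin j => b (Fin.castLE hj i)) :=
    b.linearIndependent.comp _ (Fin.castLE_injective hj)
  have hne : ∀ i : Fin j, b (Fin.castLE hj i) ≠ 0 := fun i => b.ne_zero _
  have hcard : ∀ W : Submodule F V, ∀ s : Finset (Fin j),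
      (∀ i ∈ s, Projectivization.mk F _ (hne i) ∈ pts W) → s.card ≤ finrank F W := by
    intro W s hs
    let v' : s → W := fun i => ⟨b (Fin.castLE hj i), (mk_le_iff (hne i) W).1 (hs i i.2)⟩
    have h1 : LinearIndependent F v' := by
      apply LinearIndependent.of_comp W.subtype
      exact hli.comp _ Subtype.val_injective
    have := h1.fintype_card_le_finrank
    rwa [Fintype.card_coe] at this
  refine ⟨fun i => Projectivization.mk F _ (hne i), ?_, hcard⟩
  intro i i' h
  by_contra hne'
  have h2 := hcard (Submodule.span F {b (Fin.castLE hj i)}) {i, i'} (by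
    intro x hx
    rw [Finset.mem_insert, Finset.mem_singleton] at hx
    rcases hx with rfl | rfl
    · rw [mem_pts, mk_le_iff]; exact Submodule.mem_span_singleton_self _
    · have h3 : Projectivization.mk F _ (hne i) = Projectivization.mk F _ (hne x) := h
      rw [← h3, mem_pts, mk_le_iff]; exact Submodule.mem_span_singleton_self _)
  rw [Finset.card_pair hne', finrank_span_singleton (hne i)] at h2
  omega

theorem proj_sets [Finite F] [Module.Finite F V] (h3 : 3 ≤ finrank F V) {k : ℕ} (hk : 4 ≤ k)
    (h2k : 2 * k ≤ Nat.card (ℙ F V) + 1) :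
    ∃ I J : Finset (ℙ F V), I.card = k - 1 ∧ J.card = k ∧
      ∀ γ : Equiv.Perm (ℙ F V), Nrm γ → Nrm γ⁻¹ → ∃ x ∈ I, γ x ∉ J := by
  classical
  have hfV : Finite V := Module.finite_of_finite F
  have hfP : Finite (ℙ F V) := inferInstance
  have := Fintype.ofFinite (ℙ F V)
  have hcf : Fintype.card (ℙ F V) = Nat.card (ℙ F V) := Nat.card_eq_fintype_card.symm
  set q := Nat.card F with hq
  set d := finrank F V with hd
  have hq2 : 2 ≤ q := Finite.one_lt_card
  have hcard : ∀ W : Submodule F V, (pts W).toFinset.card = th q (finrank F W) := by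
    intro W
    rw [Set.toFinset_card, ← card_pts' W, Nat.card_eq_fintype_card]
  have hall : Nat.card (ℙ F V) = th q d := card_all
  have hth3 : th q 3 = q ^ 2 + q + 1 := by simp only [th, Finset.sum_range_succ, _root_.Cfsg.Agent.H391.ProjFlat.th, _root_.Finset.sum_range_succ, _root_.Finset.range_one, _root_.Finset.sum_singleton, _root_.pow_zero, _root_.pow_one]; ring
  have hth2 : th q 2 = q + 1 := by simp [th, Finset.sum_range_succ]; ring
  have hth1 : th q 1 = 1 := by simp [th]
  have hle3 : th q 3 ≤ th q d := th_mono h3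
  by_cases hcase : k ≤ th q (d - 1)
  · have hex : ∃ j, k ≤ th q j := ⟨_, hcase⟩
    obtain ⟨j, hj, hmin⟩ : ∃ j, k ≤ th q j ∧ ∀ i < j, th q i < k :=
      ⟨Nat.find hex, Nat.find_spec hex, fun i hi => not_le.1 (Nat.find_min hex hi)⟩
    have hjd : j ≤ d - 1 := by
      by_contra hcon
      have := hmin (d - 1) (by omega)
      omega
    have hj2 : 2 ≤ j := by
      by_contra hcon
      have : th q j ≤ th q 1 := th_mono (by omega)
      omega
    by_cases hsp : j + 2 ≤ k
    · -- case (A)
      obtain ⟨W, hW⟩ := exists_finrank_eq (F := F) (V := V) (j := j) (by omega)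
      obtain ⟨v, hv, hind⟩ := exists_indep (F := F) (V := V) (j := j + 1) (by omega)
      obtain ⟨J, hJ1, hJ2⟩ := Finset.exists_subset_card_eq (s := (pts W).toFinset) (n := k)
        (by rw [hcard, hW]; exact hj)
      have hvc : (Finset.univ.image v).card = j + 1 := by
        rw [Finset.card_image_of_injective _ hv, Finset.card_univ, Fintype.card_fin]
      obtain ⟨I, hI1, -, hI2⟩ := Finset.exists_subsuperset_card_eq (s := Finset.univ.image v) (t := Finset.univ)
        (n := k - 1) (Finset.subset_univ _) (by rw [hvc]; omega) (by rw [Finset.card_univ, hcf]; omega)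
      refine ⟨I, J, hI2, hJ2, fun γ hγ hγ' => ?_⟩
      by_contra hcon
      push Not at hcon
      obtain ⟨W', hW', hiff⟩ := hγ'.exists_map h3 W
      have h1 := hind W' Finset.univ (fun i _ => by
        have h2 : v i ∈ I := hI1 (Finset.mem_image_of_mem v (Finset.mem_univ i))
        have h4 := hJ1 (hcon _ h2)
        rw [Set.mem_toFinset, hiff] at h4
        have h5 : γ⁻¹ (γ (v i)) = v i := γ.symm_apply_apply _
        rwa [h5] at h4)
      rw [Finset.card_univ, Fintype.card_fin, hW', hW] at h1
      omega
    · -- case (C)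
      have hk4 : k = 4 ∧ j = 3 ∧ q = 2 := by
        have h1 : th q (j - 1) < k := hmin _ (by omega)
        have h2 := two_pow_le_th hq2 (j - 1)
        have h4 : 2 ^ (j - 1) ≤ k := by omega
        have h5 : j < 4 := by
          by_contra h6
          obtain ⟨i, rfl⟩ : ∃ i, j = i + 4 := ⟨j - 4, by omega⟩
          have h7 : i < 2 ^ i := Nat.lt_two_pow_self
          have h8 : i + 4 - 1 = i + 3 := by omega
          rw [h8, pow_add] at h4
          omega
        have h6 : j = 3 := by
          rcases (show j = 2 ∨ j = 3 by omega) with h | h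
          · omega
          · exact h
        subst h6
        rw [show 3 - 1 = 2 from rfl, hth2] at h1
        omega
      obtain ⟨rfl, rfl, hq2'⟩ := hk4
      obtain ⟨W, hW⟩ := exists_finrank_eq (F := F) (V := V) (j := 2) (by omega)
      obtain ⟨v, hv, hind⟩ := exists_indep (F := F) (V := V) (j := 4) (by omega)
      refine ⟨(pts W).toFinset, Finset.univ.image v, ?_, ?_, fun γ hγ hγ' => ?_⟩
      · rw [hcard, hW, hth2, hq2']
      · rw [Finset.card_image_of_injective _ hv, Finset.card_univ, Fintype.card_fin]
      · by_contra hcon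
        push Not at hcon
        obtain ⟨W', hW', hiff⟩ := hγ.exists_map h3 W
        have h1 : ((pts W').toFinset).card ≤ (Finset.univ.filter fun i => v i ∈ pts W').card := by
          refine Finset.card_le_card_of_surjOn v ?_
          intro p hp
          rw [Finset.mem_coe, Set.mem_toFinset] at hp
          have h2 : γ⁻¹ p ∈ (pts W).toFinset := by
            rw [Set.mem_toFinset, hiff]
            have : γ (γ⁻¹ p) = p := γ.apply_symm_apply p
            rwa [this]
          have h4 := hcon _ h2
          have h5 : γ (γ⁻¹ p) = p := γ.apply_symm_apply p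
          rw [h5, Finset.mem_image] at h4
          obtain ⟨i, -, rfl⟩ := h4
          exact ⟨i, by simpa using hp, rfl⟩
        have h2 := hind W' (Finset.univ.filter fun i => v i ∈ pts W') (fun i hi => (Finset.mem_filter.1 hi).2)
        rw [hcard, hW', hW, hth2, hq2'] at h1
        rw [hW', hW] at h2
        omega
  · -- case (B)
    push Not at hcase
    obtain ⟨H, hH⟩ := exists_finrank_eq (F := F) (V := V) (j := d - 1) (by omega)
    obtain ⟨L, hL⟩ := exists_finrank_eq (F := F) (V := V) (j := 2) (by omega)
    have hqq : q + 2 ≤ q ^ 2 := by nlinarith only [hq2]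
    obtain ⟨I, hI1, -, hI2⟩ := Finset.exists_subsuperset_card_eq (s := (pts H).toFinset) (t := Finset.univ)
      (n := k - 1) (Finset.subset_univ _) (by rw [hcard, hH]; omega) (by rw [Finset.card_univ, hcf]; omega)
    have hcomp : ((pts L).toFinsetᶜ).card = th q d - (q + 1) := by
      rw [Finset.card_compl, hcard, hL, hth2, hcf, hall]
    obtain ⟨J, hJ1, hJ2⟩ := Finset.exists_subset_card_eq (s := (pts L).toFinsetᶜ) (n := k)
      (by rw [hcomp]; omega)
    refine ⟨I, J, hI2, hJ2, fun γ hγ hγ' => ?_⟩
    by_contra hcon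
    push Not at hcon
    obtain ⟨H', hH', hiff⟩ := hγ.exists_map h3 H
    have h1 := Submodule.finrank_sup_add_finrank_inf_eq H' L
    have h2 : finrank F ↥(H' ⊔ L) ≤ d := Submodule.finrank_le _
    have h4 : 0 < finrank F ↥(H' ⊓ L) := by
      rw [hH', hH, hL] at h1
      (clear * - hk h3 hq2 hth3 hth2 hle3 hH hqq hJ2 hH' h1 h2; omega)
    obtain ⟨x, hx⟩ := Module.finrank_pos_iff_exists_ne_zero.1 h4
    have hx0 : (x : V) ≠ 0 := fun h => hx (Subtype.ext h)
    have h5 : Projectivization.mk F (x : V) hx0 ∈ pts H' := (mk_le_iff hx0 _).2 x.2.1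
    have h6 : Projectivization.mk F (x : V) hx0 ∈ pts L := (mk_le_iff hx0 _).2 x.2.2
    have h7 : γ (γ⁻¹ (Projectivization.mk F (x : V) hx0)) = Projectivization.mk F (x : V) hx0 :=
      γ.apply_symm_apply _
    have h8 : γ⁻¹ (Projectivization.mk F (x : V) hx0) ∈ pts H := by rw [hiff, h7]; exact h5
    have h9 := hJ1 (hcon _ (hI1 (Set.mem_toFinset.2 h8)))
    rw [h7, Finset.mem_compl, Set.mem_toFinset] at h9
    exact h9 h6

end Cfsg.Agent.H391.ProjFlat
end

-- part: H391/PslRow
section
/-!
# 2-transitive groups with socle `PSL_d(q)`, `d ≥ 3`: separated sets (helper391)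

* `ident` : `Ω` is the set of points of the projective space (in such a way that `SL_d(q)` acts through `T`);
* `perm_nrm` : every element of `G` acts on the points as a permutation normalising `SL_d(q)`;
* `sets` : for `d ≥ 3`, `k ≥ 4`, `2k ≤ n + 1` there are a `(k-1)`-set `I` and a `k`-set `J` such that no element of `G`
  maps `I` into `J`.
-/

set_option autoImplicit false

namespace Cfsg.Agent.H391.PslRow

open Matrix MulAction Cfsg.Agent.H384.TwoTrans Cfsg.Agent.H391.ProjFlat
open scoped LinearAlgebra.Projectivization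

universe u v

variable {G : Type u} {Ω : Type v} [Group G] [MulAction G Ω] {T : Subgroup G}

theorem ident (A : AS G Ω T) {F : Type*} [Field F] [Fintype F] {d : ℕ} (hd : 2 ≤ d)
    (e : Nonempty (↥T ≃* ProjectiveSpecialLinearGroup (Fin d) F))
    (hn : Nat.card Ω * (Fintype.card F - 1) = Fintype.card F ^ d - 1) :
    ∃ (φ : SpecialLinearGroup (Fin d) F →* ↥T) (f : Ω ≃ ℙ F (Fin d → F)), Function.Surjective φ ∧
      ∀ (s : SpecialLinearGroup (Fin d) F) (x : Ω), f (φ s • x) = s • f x := by
  obtain ⟨e⟩ := e
  have := A.finΩ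
  have := A.transitive
  refine PslIdent.exists_equiv_proj (by simpa only [_root_.Fintype.card_fin] using hd)
    (e.symm.toMonoidHom.comp (QuotientGroup.mk' _)) ?_ (by simpa only [_root_.Fintype.card_fin] using hn)
  exact e.symm.surjective.comp (QuotientGroup.mk'_surjective _)

/-- the permutation of the points induced by `g` -/
def pm {P : Type*} (f : Ω ≃ P) (g : G) : Equiv.Perm P := (f.symm.trans (MulAction.toPerm g)).trans f

theorem pm_apply {P : Type*} (f : Ω ≃ P) (g : G) (x : P) : pm f g x = f (g • f.symm x) := rfl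

theorem pm_inv {P : Type*} (f : Ω ≃ P) (g : G) : (pm f g)⁻¹ = pm f g⁻¹ := by
  rw [inv_eq_iff_mul_eq_one]
  ext x
  simp only [pm_apply, _root_.Equiv.Perm.coe_mul, _root_.Function.comp_apply, _root_.Cfsg.Agent.H391.PslRow.pm_apply, _root_.Equiv.symm_apply_apply, _root_.smul_inv_smul, _root_.Equiv.apply_symm_apply, _root_.Equiv.Perm.coe_one, _root_.id_eq]

theorem perm_nrm (A : AS G Ω T) {F : Type*} [Field F] {d : ℕ}
    {φ : SpecialLinearGroup (Fin d) F →* ↥T} {f : Ω ≃ ℙ F (Fin d → F)} (hφ : Function.Surjective φ)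
    (hf : ∀ (s : SpecialLinearGroup (Fin d) F) (x : Ω), f (φ s • x) = s • f x) (g : G) : Nrm (pm f g) := by
  have hT := A.normal
  intro h hh
  let s₀ : _root_.SpecialLinearGroup F (Fin d → F) := ⟨h, hh⟩
  let s : SpecialLinearGroup (Fin d) F := SpecialLinearGroup.toLin'_equiv.symm s₀
  have hs : ∀ x : ℙ F (Fin d → F), h • x = s • x := by
    intro x
    rw [Projectivization.matrixSpecialLinearGroup_smul_def, MulEquiv.apply_symm_apply]
    rfl
  obtain ⟨s', hs'⟩ := hφ ⟨g * φ s * g⁻¹, hT.conj_mem _ (φ s).2 g⟩
  refine ⟨(SpecialLinearGroup.toLin'_equiv s').1, (SpecialLinearGroup.toLin'_equiv s').2, fun x => ?_⟩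
  have h1 : (SpecialLinearGroup.toLin'_equiv s').1 • (pm f g x) = s' • pm f g x := by
    rw [Projectivization.matrixSpecialLinearGroup_smul_def]
    rfl
  rw [h1, hs, pm_apply, pm_apply, ← hf, hs']
  congr 1
  have h2 : f.symm (s • x) = φ s • f.symm x := by
    rw [Equiv.symm_apply_eq, hf, Equiv.apply_symm_apply]
  rw [h2]
  change g • (φ s : G) • f.symm x = (g * φ s * g⁻¹) • g • f.symm x
  simp only [mul_smul, inv_smul_smul]

/-- **Row `PSL_d(q)`, `d ≥ 3`.** -/
theorem sets [Fintype Ω] [DecidableEq Ω] (A : AS G Ω T) {F : Type*} [Field F] [Fintype F] {d : ℕ} (hd : 3 ≤ d)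
    (e : Nonempty (↥T ≃* ProjectiveSpecialLinearGroup (Fin d) F))
    (hn : Nat.card Ω * (Fintype.card F - 1) = Fintype.card F ^ d - 1) {k : ℕ} (hk : 4 ≤ k)
    (h2k : 2 * k ≤ Nat.card Ω + 1) :
    ∃ I J : Finset Ω, I.card = k - 1 ∧ J.card = k ∧ ∀ g : G, ∃ x ∈ I, g • x ∉ J := by
  classical
  obtain ⟨φ, f, hφ, hf⟩ := ident A (by omega) e hn
  obtain ⟨I, J, hI, hJ, h⟩ := proj_sets (F := F) (V := Fin d → F) (by simpa only [_root_.Module.finrank_fintype_fun_eq_card, _root_.Fintype.card_fin] using hd) hk
    (by rw [← Nat.card_congr f]; exact h2k)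
  refine ⟨I.map f.symm.toEmbedding, J.map f.symm.toEmbedding, by rw [Finset.card_map, hI],
    by rw [Finset.card_map, hJ], fun g => ?_⟩
  obtain ⟨x, hx, hxJ⟩ := h (pm f g) (perm_nrm A hφ hf g) (by rw [pm_inv]; exact perm_nrm A hφ hf g⁻¹)
  refine ⟨f.symm x, Finset.mem_map_of_mem _ hx, ?_⟩
  intro hcon
  apply hxJ
  rw [Finset.mem_map] at hcon
  obtain ⟨y, hy, hyx⟩ := hcon
  rw [pm_apply]
  have : f (g • f.symm x) = y := by
    rw [← hyx]
    exact f.apply_symm_apply y
  rw [this]
  exact hy

end Cfsg.Agent.H391.PslRow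
end

private theorem dce_0a797d5933df : _root_.True := by
  try have : _root_.True := by simp only [_root_.Cfsg.Agent.H391.ProjFlat.th.eq_1]
  exact _root_.True.intro
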